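import Mathlib
import Cfsg.Agent.Lib.PGroups.UniqueSubgroup
import Cfsg.Agent.OddLocal.RankThree
import Cfsg.Agent.S0126

/-! Common lemmas for Blackburn's classification of odd `p`-groups of rank at most two. -/

set_option autoImplicit false

namespace Cfsg.Agent.GenA.RankTwo

open Cfsg Subgroup

variable {G : Type*} [Group G] {p : ℕ}

theorem isMetacyclic_of_isCyclic [IsCyclic G] : IsMetacyclic G :=
  ⟨⊥, inferInstance, inferInstance, isCyclic_of_surjective _ (QuotientGroup.mk'_surjective ⊥)⟩

theorem prime_dvd_choose_two [hp : Fact p.Prime] (h2 : p ≠ 2) : p ∣ p.choose 2 :=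
  hp.out.dvd_choose_self two_ne_zero (lt_of_le_of_ne hp.out.two_le (Ne.symm h2))

theorem pow_eq_one_of_dvd {g : G} {k : ℕ} (hg : g ^ p = 1) (hk : p ∣ k) : g ^ k = 1 := by
  obtain ⟨c, rfl⟩ := hk
  rw [pow_mul, hg, one_pow]

theorem twist_pow {u X a z : G} (hau : Commute a u) (hzu : Commute z u) (hza : Commute z a)
    (hzX : Commute z X) (h1 : X * u = u * a * X) (h2 : X * a = a * z * X) (n : ℕ) :
    (u * X) ^ n = u ^ n * a ^ n.choose 2 * z ^ n.choose 3 * X ^ n := by
  have ha : ∀ n : ℕ, X ^ n * a = a * z ^ n * X ^ n := by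
    intro n
    induction n with
    | zero => simp
    | succ n ih =>
      calc X ^ (n + 1) * a = X * (X ^ n * a) := by rw [pow_succ', mul_assoc]
        _ = (X * a) * (z ^ n * X ^ n) := by rw [ih]; simp only [mul_assoc]
        _ = a * z * (X * z ^ n) * X ^ n := by rw [h2]; simp only [mul_assoc]
        _ = a * z * (z ^ n * X) * X ^ n := by rw [(hzX.pow_left n).eq]
        _ = _ := by rw [pow_succ', pow_succ']; simp only [mul_assoc]
  have hu : ∀ n : ℕ, X ^ n * u = u * (a ^ n * z ^ n.choose 2) * X ^ n := by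
    intro n
    induction n with
    | zero => simp
    | succ n ih =>
      have e : X * a ^ n = a ^ n * z ^ n * X := by
        rw [← (hza.symm).mul_pow]
        exact (SemiconjBy.pow_right (show SemiconjBy X a (a * z) from h2) n).eq
      calc X ^ (n + 1) * u = X * (X ^ n * u) := by rw [pow_succ', mul_assoc]
        _ = (X * u) * (a ^ n * z ^ n.choose 2 * X ^ n) := by rw [ih]; simp only [mul_assoc]
        _ = u * a * (X * a ^ n) * (z ^ n.choose 2 * X ^ n) := by rw [h1]; simp only [mul_assoc]
        _ = u * (a * a ^ n) * z ^ n * (X * z ^ n.choose 2) * X ^ n := by rw [e]; simp only [mul_assoc]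
        _ = u * (a * a ^ n) * (z ^ n * z ^ n.choose 2) * (X * X ^ n) := by
          rw [← (hzX.pow_left _).eq]; simp only [mul_assoc]
        _ = _ := by
          rw [← pow_succ', ← pow_succ', ← pow_add, Nat.choose_succ_succ' n 1, Nat.choose_one_right]
          simp only [mul_assoc]
  induction n with
  | zero => simp
  | succ n ih =>
    calc (u * X) ^ (n + 1) = u ^ n * a ^ n.choose 2 * z ^ n.choose 3 * (X ^ n * u) * X := by
          rw [pow_succ, ih]; simp only [mul_assoc]
      _ = u ^ n * a ^ n.choose 2 * (z ^ n.choose 3 * u) * (a ^ n * z ^ n.choose 2) * (X ^ n * X) := by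
          rw [hu]; simp only [mul_assoc]
      _ = u ^ n * (a ^ n.choose 2 * u) * z ^ n.choose 3 * (a ^ n * z ^ n.choose 2) * (X ^ n * X) := by
          rw [(hzu.pow_left _).eq]; simp only [mul_assoc]
      _ = (u ^ n * u) * a ^ n.choose 2 * (z ^ n.choose 3 * a ^ n) * z ^ n.choose 2 * (X ^ n * X) := by
          rw [(hau.pow_left _).eq]; simp only [mul_assoc]
      _ = (u ^ n * u) * (a ^ n.choose 2 * a ^ n) * (z ^ n.choose 3 * z ^ n.choose 2) * (X ^ n * X) := by
          rw [(hza.pow_pow _ _).eq]; simp only [mul_assoc]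
      _ = _ := by
          rw [← pow_succ, ← pow_succ, ← pow_add, ← pow_add,
            show (n + 1).choose 2 = n.choose 2 + n by
              rw [Nat.choose_succ_succ' n 1, Nat.choose_one_right]; exact Nat.add_comm _ _,
            show (n + 1).choose 3 = n.choose 3 + n.choose 2 by
              rw [Nat.choose_succ_succ' n 2]; exact Nat.add_comm _ _]

theorem mul_pow_of_central [Fact p.Prime] (hp2 : p ≠ 2) {u v e : G} (heu : Commute e u)
    (hev : Commute e v) (hvu : v * u = u * e * v) (he : e ^ p = 1) :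
    (u * v) ^ p = u ^ p * v ^ p := by
  rw [twist_pow heu (Commute.one_left _) (Commute.one_left _) (Commute.one_left _) hvu
    (by rw [mul_one]; exact hev.symm.eq), pow_eq_one_of_dvd he (prime_dvd_choose_two hp2), one_pow,
    mul_one, mul_one]

/-- A subgroup with at most one subgroup of order `p` is cyclic, `p` odd. -/
theorem isCyclic_of_unique [Finite G] [hp : Fact p.Prime] (hp2 : p ≠ 2) {H : Subgroup G}
    (hH : IsPGroup p H) {z : G} (hz : z ^ p = 1) (hu : ∀ w ∈ H, w ^ p = 1 → w ∈ zpowers z) :
    IsCyclic H := by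
  have hle : ∀ K : Subgroup H, Nat.card K = p → K.map H.subtype = zpowers z := fun K hK => by
    refine eq_of_le_of_card_ge ?_ ?_
    · rintro _ ⟨k, hk, rfl⟩
      refine hu _ k.2 ?_
      have := orderOf_dvd_iff_pow_eq_one.mp (hK ▸ K.orderOf_dvd_natCard hk : orderOf k ∣ p)
      simpa using congrArg Subtype.val this
    · rw [card_map_of_injective H.subtype_injective, hK, Nat.card_zpowers]
      exact Nat.le_of_dvd hp.out.pos (orderOf_dvd_iff_pow_eq_one.mpr hz)
  rcases PGroups.UniqueSubgroup.isCyclic_or_quaternion hH (fun K L hK hL =>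
    map_injective H.subtype_injective ((hle K hK).trans (hle L hL).symm)) with h | h
  · exact h
  · exact absurd h.1 hp2

/-- An element of order `p` centralising an elementary abelian subgroup of order `p²` lies in it. -/
theorem absorb [Finite G] [hp : Fact p.Prime] (hrk : PRankLE p 2 G) {A : Subgroup G}
    (hA : IsElementaryAbelian p A) (hA2 : Nat.card A = p ^ 2) {w : G}
    (hc : w ∈ centralizer (A : Set G)) (hw : w ^ p = 1) : w ∈ A := by
  have hB := PLocal.ThompsonSubgroup.IsElementaryAbelian.sup hA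
    (PLocal.ThompsonSubgroup.isElementaryAbelian_zpowers hw) (le_centralizer_iff.mp (zpowers_le.mpr hc))
  have h := eq_of_le_of_card_ge (le_sup_left : A ≤ A ⊔ zpowers w) (hA2 ▸ hrk _ hB.1 hB.2)
  exact h ▸ mem_sup_right (mem_zpowers w)

theorem index_centralizer_dvd [Finite G] [hp : Fact p.Prime] (hG : IsPGroup p G) (A : Subgroup G)
    [A.Normal] (hA2 : Nat.card A = p ^ 2) : (centralizer (A : Set G)).index ≤ p := by
  simpa using PGroups.AbelianNormal.index_centralizer_le hG A hA2

theorem conj_mem_mul_center [Finite G] [hp : Fact p.Prime] (hG : IsPGroup p G) (A : Subgroup G)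
    [A.Normal] (hA2 : Nat.card A = p ^ 2) {a : G} (ha : a ∈ A) (g : G) :
    a⁻¹ * (g * a * g⁻¹) ∈ center G := by
  have h := OddLocal.RankThree.commutator_le_center hG A hA2
    (commutator_mem_commutator (inv_mem ha) (mem_top g))
  rwa [commutatorElement_def, inv_inv, mul_assoc (a⁻¹ * g), mul_assoc a⁻¹, ← mul_assoc g a] at h

end Cfsg.Agent.GenA.RankTwo
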