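import Cfsg.Agent.GenA.RankTwo.Basic
import Cfsg.Agent.S3919

/-! Odd `p`-groups of rank two with an element of order `p` outside a normal `E(p²)`:
the two families of Blackburn, or `p = 3` and maximal class. -/

set_option autoImplicit false

namespace Cfsg.Agent.GenA.RankTwo

open Cfsg Subgroup

universe u

variable {G : Type u} [Group G] [Finite G] {p : ℕ} [hp : Fact p.Prime]

theorem zpowers_eq_of_le (hG : IsPGroup p G) {z g : G} (hz : z ^ p = 1) (hg : g ∈ zpowers z)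
    (hg1 : g ≠ 1) : zpowers g = zpowers z := by
  refine eq_of_le_of_card_ge (zpowers_le.mpr hg) ?_
  have hgp : g ^ p = 1 := by
    obtain ⟨i, rfl⟩ := mem_zpowers_iff.mp hg
    rw [← zpow_natCast, ← zpow_mul, mul_comm, zpow_mul, zpow_natCast, hz, one_zpow]
  rw [Nat.card_zpowers, Nat.card_zpowers, orderOf_eq_prime hgp hg1]
  exact Nat.le_of_dvd hp.out.pos (orderOf_dvd_iff_pow_eq_one.mpr hz)

theorem large_omega (hp2 : p ≠ 2) (n : ℕ) (hcard : Nat.card G = p ^ n) (hrk : PRankLE p 2 G)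
    (A : Subgroup G) [A.Normal] (hA : IsElementaryAbelian p A) (hA2 : Nat.card A = p ^ 2)
    (x : G) (hx : x ^ p = 1) (hxA : x ∉ A) :
    (3 ≤ n ∧ ∃ x y z : G, closure ({x, y, z} : Set G) = ⊤ ∧ x ^ p = 1 ∧ y ^ p = 1 ∧
        z ^ p ^ (n - 2) = 1 ∧ x * z = z * x ∧ y * z = z * y ∧ x⁻¹ * y * x = y * z ^ p ^ (n - 3)) ∨
    (4 ≤ n ∧ ∃ (s : ℕ) (x y z : G), (s = 1 ∨ ¬ IsSquare (s : ZMod p)) ∧
        closure ({x, y, z} : Set G) = ⊤ ∧
        x ^ p = 1 ∧ y ^ p = 1 ∧ z ^ p ^ (n - 2) = 1 ∧ y * z = z * y ∧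
        x⁻¹ * y * x = y * z ^ (s * p ^ (n - 3)) ∧ x⁻¹ * z * x = y * z) ∨
    (p = 3 ∧ 2 ≤ n ∧ (⊤ : Subgroup G).lowerCentralSeries (n - 2) ≠ ⊥) := by
  have hG : IsPGroup p G := IsPGroup.of_card hcard
  haveI := hG.isNilpotent
  set K := centralizer (A : Set G) with hK
  have hKn : K.Normal := by rw [hK]; infer_instance
  have hAab : ∀ a ∈ A, ∀ b ∈ A, a * b = b * a := fun a ha b hb =>
    haveI := hA.1; congrArg Subtype.val (mul_comm' (⟨a, ha⟩ : A) ⟨b, hb⟩)
  have hAK : A ≤ K := fun a ha => mem_centralizer_iff.mpr fun b hb => hAab b hb a ha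
  have hKA : ∀ k ∈ K, ∀ a ∈ A, Commute a k := fun k hk a ha => mem_centralizer_iff.mp hk a ha
  have hxK : x ∉ K := fun h => hxA (absorb hrk hA hA2 h hx)
  have hA1 : A ≠ ⊥ := fun e => by
    rw [e, card_bot] at hA2
    exact absurd hA2 (Nat.one_lt_pow two_ne_zero hp.out.one_lt).ne
  obtain ⟨ζ, hζ, hζ1⟩ := (bot_or_exists_ne_one _).resolve_left (Cores.inf_center_ne_bot hA1)
  have hζA : ζ ∈ A := hζ.1
  have hζc : ∀ g, Commute g ζ := fun g => mem_center_iff.mp hζ.2 g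
  have hζp : ζ ^ p = 1 := hA.2 ζ hζA
  have hζo : Nat.card (zpowers ζ) = p := by rw [Nat.card_zpowers, orderOf_eq_prime hζp hζ1]
  set Z := zpowers ζ with hZ
  have hZA : Z ≤ A := zpowers_le.mpr hζA
  have hZc : ∀ z ∈ Z, ∀ g, Commute g z := fun z hz g => by
    obtain ⟨i, rfl⟩ := mem_zpowers_iff.mp hz
    exact (hζc g).zpow_right i
  haveI hZn : Z.Normal := ⟨fun z hz g => by rwa [(hZc z hz g).eq, mul_inv_cancel_right]⟩
  -- a proper subgroup of `A` containing `Z` equals `Z`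
  have hmax : ∀ B : Subgroup G, Z ≤ B → B ≤ A → B ≠ A → B = Z := fun B h1 h2 h3 => by
    obtain ⟨i, hi, hic⟩ := (Nat.dvd_prime_pow hp.out).mp (hA2 ▸ card_dvd_of_le h2)
    refine (eq_of_le_of_card_ge h1 ?_).symm
    rw [hζo, hic]
    refine (Nat.pow_le_pow_right hp.out.pos (?_ : i ≤ 1)).trans (pow_one p).le
    by_contra hi1
    exact h3 (eq_of_le_of_card_ge h2 (by rw [hA2, hic, show i = 2 by omega]))
  have hAx : ∀ a ∈ A, Commute a x → a ∈ Z := by
    intro a ha hc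
    have hB := hmax (A ⊓ centralizer ({x} : Set G))
      (fun z hz => ⟨hZA hz, mem_centralizer_singleton_iff.mpr (hZc z hz x).eq.symm⟩) inf_le_left
      (fun e => hxK (mem_centralizer_iff.mpr fun b hb =>
        mem_centralizer_singleton_iff.mp (e.ge hb).2))
    exact hB ▸ (⟨ha, mem_centralizer_singleton_iff.mpr hc.eq⟩ : a ∈ A ⊓ centralizer ({x} : Set G))
  have hdA : ∀ a ∈ A, ∀ g : G, a⁻¹ * (g * a * g⁻¹) ∈ Z := fun a ha g =>
    hAx _ (mul_mem (inv_mem ha) (‹A.Normal›.conj_mem a ha g))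
      (mem_center_iff.mp (conj_mem_mul_center hG A hA2 ha g) x).symm
  obtain ⟨y, hy, hyZ⟩ : ∃ y ∈ A, y ∉ Z := SetLike.exists_of_lt (lt_of_le_of_ne hZA fun e => by
    rw [← e, hζo] at hA2
    exact absurd hA2 (lt_self_pow₀ hp.out.one_lt one_lt_two).ne)
  have hyp : y ^ p = 1 := hA.2 y hy
  have hAgen : A ≤ Z ⊔ zpowers y := by
    by_contra h
    have h' := hmax _ le_sup_left (sup_le hZA (zpowers_le.mpr hy)) (fun e => h e.ge)
    exact hyZ (h' ▸ mem_sup_right (mem_zpowers y))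
  -- `E = A⟨x⟩` of exponent `p`
  set E := A ⊔ zpowers x with hE
  have hxE : x ∈ E := mem_sup_right (mem_zpowers x)
  have hEp : ∀ e ∈ E, e ^ p = 1 := by
    intro e he
    obtain ⟨a, ha, X, hX, rfl⟩ := mem_sup_of_normal_left.mp he
    obtain ⟨i, rfl⟩ := mem_zpowers_iff.mp hX
    set d := a⁻¹ * (x ^ i * a * (x ^ i)⁻¹) with hd
    have hdZ := hdA a ha (x ^ i)
    rw [mul_pow_of_central hp2 (hZc d hdZ a).symm (hZc d hdZ _).symm (by rw [hd]; group)
      (hA.2 d (hZA hdZ)), hA.2 a ha, ← zpow_natCast, ← zpow_mul, mul_comm i, zpow_mul, zpow_natCast,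
      hx, one_zpow, one_mul]
  have hxpow : ∀ i : ℤ, x ^ i ∈ K → x ^ i = 1 := by
    intro i hi
    by_contra h
    exact hxK (zpowers_le.mpr hi ((zpowers_eq_of_le hG hx (mem_zpowers_iff.mpr ⟨i, rfl⟩) h).ge
      (mem_zpowers x)))
  have hEK : ∀ e ∈ E, e ∈ K → e ∈ A := by
    intro e he heK
    obtain ⟨a, ha, X, hX, rfl⟩ := mem_sup_of_normal_left.mp he
    obtain ⟨i, rfl⟩ := mem_zpowers_iff.mp hX
    rw [hxpow i (by simpa using mul_mem (inv_mem (hAK ha)) heK), mul_one]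
    exact ha
  have hKi : K.index = p := by
    obtain ⟨k, hk⟩ := hG.index K
    have hle := index_centralizer_dvd hG A hA2
    rw [← hK, hk] at hle
    rcases Nat.lt_or_ge k 1 with h | h
    · exact absurd ((index_eq_one.mp (by rw [hk, show k = 0 by omega, pow_zero])) ▸ mem_top x) hxK
    · rw [hk]; exact le_antisymm hle (Nat.le_self_pow (by omega) p)
  have hKx : K ⊔ zpowers x = ⊤ := by
    have h1 := relIndex_mul_index (le_sup_left : K ≤ K ⊔ zpowers x)
    rw [hKi] at h1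
    rcases (Nat.dvd_prime hp.out).mp (Dvd.intro_left _ h1) with h | h
    · exact index_eq_one.mp h
    · rw [h] at h1
      exact absurd (relIndex_eq_one.mp (mul_eq_right₀ hp.out.ne_zero |>.mp h1)
        (mem_sup_right (mem_zpowers x))) hxK
  -- the cyclic group `C = C_G(E)`
  set C := K ⊓ centralizer ({x} : Set G) with hC
  have hCx : ∀ v ∈ C, Commute v x := fun v hv => mem_centralizer_singleton_iff.mp hv.2
  have hCu : ∀ w ∈ C, w ^ p = 1 → w ∈ Z := fun w hw h =>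
    hAx w (absorb hrk hA hA2 hw.1 h) (hCx w hw)
  haveI := isCyclic_of_unique hp2 (hG.to_subgroup C) hζp hCu
  obtain ⟨⟨c, hcC⟩, hgen⟩ := IsCyclic.exists_generator (α := C)
  have hCc : C = zpowers c := le_antisymm (fun v hv => by
    obtain ⟨i, hi⟩ := mem_zpowers_iff.mp (hgen ⟨v, hv⟩)
    exact mem_zpowers_iff.mpr ⟨i, by simpa using congrArg Subtype.val hi⟩) (zpowers_le.mpr hcC)
  have hCcomm : ∀ u ∈ C, ∀ v ∈ C, Commute u v := by
    intro u hu v hv
    obtain ⟨i, rfl⟩ := mem_zpowers_iff.mp (hCc ▸ hu)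
    obtain ⟨j, rfl⟩ := mem_zpowers_iff.mp (hCc ▸ hv)
    exact Commute.zpow_zpow_self c i j
  have hζC : ζ ∈ C := ⟨hAK hζA, mem_centralizer_singleton_iff.mpr (hζc x).eq.symm⟩
  obtain ⟨m, hm⟩ := (hG.to_subgroup C).exists_card_eq
  have hm1 : 1 ≤ m := by
    by_contra h
    have := card_le_of_le (zpowers_le.mpr hζC : Z ≤ C)
    rw [hζo, hm, show m = 0 by omega, pow_zero] at this
    exact this.not_gt hp.out.one_lt
  have hco : orderOf c = p ^ m := by rw [← Nat.card_zpowers, ← hCc, hm]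
  have hroot : ∀ g : G, zpowers g = C → g ^ p ^ (m - 1) ∈ Z ∧ g ^ p ^ (m - 1) ≠ 1 := by
    intro g hg
    have hgo : orderOf g = p ^ m := by rw [← Nat.card_zpowers, hg, hm]
    refine ⟨hCu _ (hg.le (pow_mem (mem_zpowers g) _)) ?_, fun h => ?_⟩
    · rw [← pow_mul, ← pow_succ, show m - 1 + 1 = m by omega, ← hgo, pow_orderOf_eq_one]
    · have := Nat.le_of_dvd (pow_pos hp.out.pos _) (orderOf_dvd_iff_pow_eq_one.mpr h)
      rw [hgo] at this
      exact absurd ((Nat.pow_le_pow_iff_right hp.out.one_lt).mp this) (by omega)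
  by_cases hsmall : p = 3 ∧ m = 1
  · right; right
    have hn2 : 2 ≤ n := (Nat.pow_le_pow_iff_right hp.out.one_lt).mp
      (hA2 ▸ hcard ▸ card_le_card_group A)
    refine ⟨hsmall.1, hn2, Cfsg.Agent.S3919.class_large n G hcard hn2 x ?_⟩
    set D := centralizer ({x} : Set G)
    have h1 : Nat.card C * C.relIndex D = Nat.card D := by
      simpa using relIndex_mul_relIndex ⊥ C D bot_le inf_le_right
    have h2 : C.relIndex D = K.relIndex D := inf_relIndex_right K D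
    have h3 : K.relIndex D ≤ p := hKi ▸
      Nat.le_of_dvd (Nat.pos_of_ne_zero index_ne_zero_of_finite) (relIndex_dvd_index_of_normal K D)
    rw [← h1, h2, hm, hsmall.2, pow_one, pow_two]
    exact Nat.mul_le_mul_left p h3
  set N := normalizer (E : Set G) with hN
  have hEN : E ≤ N := le_normalizer
  have hconj : ∀ g ∈ N, ∀ e ∈ E, g * e * g⁻¹ ∈ E := fun g hg e he =>
    (mem_normalizer_iff.mp hg e).mp he
  -- `u` normalises `C`
  have hCn : ∀ u ∈ K, u ∈ N → ∀ v ∈ C, u⁻¹ * v * u ∈ C := by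
    intro u hu huN v hv
    refine mem_inf.mpr ⟨mul_mem (mul_mem (inv_mem hu) hv.1) hu, mem_centralizer_singleton_iff.mpr ?_⟩
    obtain ⟨a, ha, X, hX, he⟩ := mem_sup_of_normal_left.mp (hconj u huN x hxE)
    obtain ⟨i, rfl⟩ := mem_zpowers_iff.mp hX
    have : Commute v (u * x * u⁻¹) := by
      rw [← he]; exact (hKA v hv.1 a ha).symm.mul_right ((hCx v hv).zpow_right i)
    calc u⁻¹ * v * u * x = u⁻¹ * (v * (u * x * u⁻¹)) * u := by group
      _ = u⁻¹ * ((u * x * u⁻¹) * v) * u := by rw [this.eq]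
      _ = x * (u⁻¹ * v * u) := by group
  -- `p`-th roots
  have hrootA : ∀ u ∈ K, u ∈ N → ∀ v ∈ C, v ^ p = u ^ p → u * v⁻¹ ∈ A := by
    intro u hu huN v hv hvu
    set e := u⁻¹ * v⁻¹ * u * v with he
    have hw : u⁻¹ * v⁻¹ * u ∈ C := hCn u hu huN _ (inv_mem hv)
    have hep : e ^ p = 1 := by
      rw [he, (hCcomm _ hw v hv).mul_pow]
      rw [show u⁻¹ * v⁻¹ * u = u⁻¹ * v⁻¹ * u⁻¹⁻¹ by rw [inv_inv], conj_pow, inv_pow, hvu, inv_inv,
        mul_assoc u⁻¹, ((Commute.refl u).pow_left p).inv_left.eq, inv_mul_cancel_left, inv_mul_cancel]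
    have heZ := hCu e (mul_mem hw hv) hep
    refine absorb hrk hA hA2 (mul_mem hu (inv_mem hv.1)) ?_
    rw [mul_pow_of_central hp2 (hZc e heZ u).symm (hZc e heZ v⁻¹).symm (by rw [he]; group) hep,
      inv_pow, hvu, mul_inv_cancel]
  -- twisting by elements of `A C`
  have htwist : ∀ u : G, ∀ v ∈ C, u * v⁻¹ ∈ A → ∀ i : ℤ, u⁻¹ * x ^ i * u * (x ^ i)⁻¹ ∈ Z := by
    intro u v hv hu i
    set α := u * v⁻¹ with hα
    set X := x ^ i
    have hz : α⁻¹ * (X * α * X⁻¹) ∈ Z := hdA α hu X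
    have hvX : Commute v X := (hCx v hv).zpow_right i
    have e : u⁻¹ * X * u * X⁻¹ = v⁻¹ * (α⁻¹ * (X * α * X⁻¹)) * v := by
      rw [show u = α * v by rw [hα, inv_mul_cancel_right], mul_inv_rev,
        show v⁻¹ * (α⁻¹ * (X * α * X⁻¹)) * v = v⁻¹ * α⁻¹ * X * α * (X⁻¹ * v) by group,
        hvX.inv_right.symm.eq]
      group
    rw [e, mul_assoc, ← (hZc _ hz v).eq, inv_mul_cancel_left]
    exact hz
  -- elements of order `p` in `N` lie in `E`
  have hΩ : ∀ w ∈ N, w ^ p = 1 → w ∈ E := by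
    intro w hwN hwp
    obtain ⟨u, hu, X, hX, rfl⟩ := mem_sup_of_normal_left.mp (hKx ▸ mem_top w : w ∈ K ⊔ zpowers x)
    have hXE : X ∈ E := mem_sup_right hX
    obtain ⟨i, rfl⟩ := mem_zpowers_iff.mp hX
    have huN : u ∈ N := by simpa using mul_mem hwN (inv_mem (hEN hXE))
    set a := u⁻¹ * x ^ i * u * (x ^ i)⁻¹ with ha
    have haA : a ∈ A := hEK a
      (mul_mem (by simpa using hconj _ (inv_mem huN) _ hXE) (inv_mem hXE))
      (by
        rw [ha, mul_assoc u⁻¹, mul_assoc u⁻¹]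
        exact mul_mem (inv_mem hu) (hKn.conj_mem u hu (x ^ i)))
    set z := a⁻¹ * (x ^ i * a * (x ^ i)⁻¹) with hz
    have hzZ := hdA a haA (x ^ i)
    rw [← hz] at hzZ
    have hXp : (x ^ i) ^ p = 1 := hEp _ hXE
    rw [twist_pow (hKA u hu a haA) (hZc z hzZ u).symm (hZc z hzZ a).symm (hZc z hzZ _).symm
      (show x ^ i * u = u * a * x ^ i by rw [ha]; group) (show x ^ i * a = a * z * x ^ i by rw [hz]; group),
      pow_eq_one_of_dvd (hA.2 a haA) (prime_dvd_choose_two hp2), mul_one, hXp, mul_one] at hwp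
    suffices hu1 : u ^ p = 1 by exact mul_mem (mem_sup_left (absorb hrk hA hA2 hu hu1)) hXE
    by_cases hp3 : 3 < p
    · rwa [pow_eq_one_of_dvd (hA.2 z (hZA hzZ)) (hp.out.dvd_choose_self (by norm_num) hp3),
        mul_one] at hwp
    have hp3' : p = 3 := by have := hp.out.two_le; omega
    have hm2 : 2 ≤ m := by
      by_contra h
      exact hsmall ⟨hp3', by omega⟩
    obtain ⟨hr1, hr2⟩ := hroot c hCc.symm
    have hup : u ^ p ∈ zpowers (c ^ p ^ (m - 1)) := by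
      rw [zpowers_eq_of_le hG hζp hr1 hr2, eq_inv_of_mul_eq_one_left hwp]
      exact inv_mem (pow_mem hzZ _)
    obtain ⟨j, hj⟩ := mem_zpowers_iff.mp hup
    have hv : (c ^ p ^ (m - 2)) ^ j ∈ C := zpow_mem (pow_mem hcC _) j
    have hvp : ((c ^ p ^ (m - 2)) ^ j) ^ p = u ^ p := by
      rw [← hj, ← zpow_natCast _ p, ← zpow_mul, mul_comm, zpow_mul, zpow_natCast, ← pow_mul,
        ← pow_succ, show m - 2 + 1 = m - 1 by omega]
    have haZ := htwist u _ hv (hrootA u hu huN _ hv hvp) i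
    rw [← ha] at haZ
    have hz1 : z = 1 := by
      rw [hz, (hZc a haZ (x ^ i)).eq, mul_inv_cancel_right, inv_mul_cancel]
    rwa [hz1, one_pow, mul_one] at hwp
  -- `E` is normal
  have hNtop : N = ⊤ := by
    by_contra hne
    obtain ⟨g, hg, hgN⟩ := SetLike.exists_of_lt
      (Group.normalizerCondition_of_isNilpotent (G := G) N (lt_top_iff_ne_top.mpr hne))
    refine hgN (mem_normalizer_fintype (S := (E : Set G)) fun e he => ?_)
    exact hΩ _ ((mem_normalizer_iff.mp hg e).mp (hEN he)) (by rw [conj_pow, hEp e he]; simp)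
  have hNall : ∀ g : G, g ∈ N := fun g => hNtop ▸ mem_top g
  -- `φ h = [x, h⁻¹]`
  have hφA : ∀ h ∈ K, x⁻¹ * h * x * h⁻¹ ∈ A := fun h hh =>
    hEK _ (by rw [mul_assoc x⁻¹, mul_assoc x⁻¹]; exact mul_mem (inv_mem hxE) (hconj h (hNall h) x hxE))
      (mul_mem (by simpa using hKn.conj_mem h hh x⁻¹) (inv_mem hh))
  let φ : K →* G := MonoidHom.mk' (fun h => x⁻¹ * (h : G) * x * (h : G)⁻¹) fun h k => by
    have hc := hKA h h.2 _ (hφA k k.2)
    calc x⁻¹ * ((h : G) * k) * x * ((h : G) * k)⁻¹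
        = (x⁻¹ * (h : G) * x) * ((x⁻¹ * (k : G) * x * (k : G)⁻¹) * (h : G)⁻¹) := by group
      _ = (x⁻¹ * (h : G) * x) * ((h : G)⁻¹ * (x⁻¹ * (k : G) * x * (k : G)⁻¹)) := by
          rw [hc.inv_right.eq]
      _ = _ := by group
  have hφr : φ.range ≤ A := by rintro _ ⟨h, rfl⟩; exact hφA h h.2
  have hker : ∀ h : K, φ h = 1 → (h : G) ∈ C := fun h hh =>
    ⟨h.2, mem_centralizer_singleton_iff.mpr (by
      calc (h : G) * x = x * (φ h * h) := by show _ = x * (x⁻¹ * (h : G) * x * (h : G)⁻¹ * h); group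
        _ = _ := by rw [hh, one_mul])⟩
  have hkerC : φ.ker.map K.subtype = C := le_antisymm
    (by rintro _ ⟨h, hh, rfl⟩; exact hker h hh)
    fun v hv => ⟨⟨v, hv.1⟩, show x⁻¹ * v * x * v⁻¹ = 1 by
      rw [mul_assoc x⁻¹, (hCx v hv).eq]; group, rfl⟩
  have hnm : ∀ r, Nat.card φ.range = p ^ r → n = m + r + 1 := by
    intro r hr
    have h1 : Nat.card φ.ker = p ^ m := by
      rw [← hm, ← hkerC, card_map_of_injective K.subtype_injective]
    have h2 := φ.ker.card_mul_index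
    rw [index_ker, h1, hr] at h2
    have h3 := K.card_mul_index
    rw [← h2, hKi, hcard, ← pow_add, ← pow_succ] at h3
    exact (Nat.pow_right_injective hp.out.two_le h3).symm
  set ζ' := y⁻¹ * (x⁻¹ * y * x) with hζ'
  have hζ'Z : ζ' ∈ Z := by simpa [hζ'] using hdA y hy x⁻¹
  have hζ'1 : ζ' ≠ 1 := fun h => hyZ (hAx y hy (by
    have h' : x⁻¹ * y * x = y := (inv_mul_eq_one.mp h).symm
    calc y * x = x * (x⁻¹ * y * x) := by group
      _ = x * y := by rw [h']))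
  have hφy : φ ⟨y, hAK hy⟩ = ζ' := by
    show x⁻¹ * y * x * y⁻¹ = ζ'
    rw [show x⁻¹ * y * x = y * ζ' by rw [hζ']; group, (hZc ζ' hζ'Z y).eq, mul_inv_cancel_right]
  have hZr : Z ≤ φ.range := by
    rw [hZ, ← zpowers_eq_of_le hG hζp hζ'Z hζ'1]
    exact zpowers_le.mpr ⟨_, hφy⟩
  -- generation
  have hgenL : ∀ L : Subgroup G, x ∈ L → y ∈ L → C ≤ L →
      φ.range ≤ (L.comap K.subtype).map φ → L = ⊤ := by
    intro L hxL hyL hCL hsur
    refine top_le_iff.mp (hKx ▸ sup_le (fun k hk => ?_) (zpowers_le.mpr hxL))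
    obtain ⟨l, hl, hlk⟩ := hsur ⟨⟨k, hk⟩, rfl⟩
    have h := hker (l⁻¹ * ⟨k, hk⟩) (by rw [map_mul, map_inv, hlk, inv_mul_cancel])
    have := mul_mem (mem_comap.mp hl) (hCL h)
    simpa using this
  have hZy : ∀ L : Subgroup G, y ∈ L → Z ≤ (L.comap K.subtype).map φ := fun L hyL => by
    rw [hZ, ← zpowers_eq_of_le hG hζp hζ'Z hζ'1]
    exact zpowers_le.mpr ⟨⟨y, hAK hy⟩, hyL, hφy⟩
  by_cases hcase : φ.range ≤ Z
  · left
    have hr : φ.range = Z := le_antisymm hcase hZr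
    have hn := hnm 1 (by rw [hr, hζo, pow_one])
    obtain ⟨hr1, hr2⟩ := hroot c hCc.symm
    obtain ⟨e, he⟩ : ∃ e : ℕ, (c ^ p ^ (m - 1)) ^ e = ζ' := by
      rw [← Submonoid.mem_powers_iff, mem_powers_iff_mem_zpowers, zpowers_eq_of_le hG hζp hr1 hr2]
      exact hζ'Z
    have hep : ¬ p ∣ e := by
      rintro ⟨d, rfl⟩
      refine hζ'1 ?_
      rw [← he, pow_mul, ← pow_mul c, ← pow_succ, show m - 1 + 1 = m by omega, ← hco,
        pow_orderOf_eq_one, one_pow]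
    refine ⟨by omega, x, y, c ^ e, ?_, hx, hyp, ?_, ((hCx c hcC).pow_left e).eq.symm,
      ((hKA c hcC.1 y hy).pow_right e).eq, ?_⟩
    · refine hgenL _ (subset_closure (by simp)) (subset_closure (by simp)) ?_ ?_
      · have hz : zpowers (c ^ e) = C := by
          rw [hCc]
          refine eq_of_le_of_card_ge (zpowers_le.mpr (pow_mem (mem_zpowers c) e)) ?_
          rw [Nat.card_zpowers, Nat.card_zpowers, (Nat.Coprime.orderOf_pow (y := c) ?_)]
          rw [hco]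
          exact ((hp.out.coprime_iff_not_dvd.mpr hep).pow_left m)
        exact hz.ge.trans (zpowers_le.mpr (subset_closure (by simp)))
      · exact hcase.trans (hZy _ (subset_closure (by simp)))
    · rw [show n - 2 = m by omega, ← pow_mul, mul_comm, pow_mul, ← hco, pow_orderOf_eq_one, one_pow]
    · rw [show n - 3 = m - 1 by omega, ← pow_mul, mul_comm, pow_mul, he, hζ']; group
  right; left
  have hr : φ.range = A := by
    by_contra h
    exact hcase (hmax _ hZr hφr h).le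
  have hn := hnm 2 (by rw [hr, hA2])
  obtain ⟨⟨h, hhK⟩, hh⟩ : y ∈ φ.range := hr ▸ hy
  have hxh : x⁻¹ * h * x = y * h := by rw [← hh]; show _ = x⁻¹ * h * x * h⁻¹ * h; group
  have hhy : Commute y h := hKA h hhK y hy
  have hhpC : h ^ p ∈ C := by
    refine hker ⟨h ^ p, pow_mem hhK p⟩ ?_
    have := congrArg (· ^ p) hh
    simp only [← map_pow, hyp] at this
    exact this
  obtain ⟨k, hk⟩ : ∃ k : ℕ, c ^ k = h ^ p := by
    rw [← Submonoid.mem_powers_iff, mem_powers_iff_mem_zpowers, ← hCc]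
    exact hhpC
  have hkp : ¬ p ∣ k := by
    rintro ⟨d, rfl⟩
    have hv : c ^ d ∈ C := pow_mem hcC d
    have hα := hrootA h hhK (hNall h) _ hv (by rw [← pow_mul, mul_comm, hk])
    have h1 := htwist h _ hv hα 1
    rw [zpow_one] at h1
    -- `h⁻¹ x h x⁻¹` is conjugate to `y⁻¹`
    have e : h⁻¹ * x * h * x⁻¹ = (h⁻¹ * x * y⁻¹ * x⁻¹ * h)⁻¹⁻¹ := by
      rw [inv_inv, show y = x⁻¹ * h * x * h⁻¹ by rw [← hh]; rfl]; group
    refine hyZ ?_
    have h2 := hZn.conj_mem _ h1 (x⁻¹ * h)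
    rw [e, inv_inv] at h2
    have h3 := inv_mem h2
    have e3 : (x⁻¹ * h * (h⁻¹ * x * y⁻¹ * x⁻¹ * h) * (x⁻¹ * h)⁻¹)⁻¹ = y := by group
    rwa [e3] at h3
  have hhgen : zpowers (h ^ p) = C := by
    rw [hCc, ← hk]
    refine eq_of_le_of_card_ge (zpowers_le.mpr (pow_mem (mem_zpowers c) k)) ?_
    rw [Nat.card_zpowers, Nat.card_zpowers, (Nat.Coprime.orderOf_pow (y := c) ?_)]
    rw [hco]
    exact ((hp.out.coprime_iff_not_dvd.mpr hkp).pow_left m)
  set ζ₀ := h ^ p ^ m with hζ0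
  obtain ⟨h01, h02⟩ := hroot _ hhgen
  rw [← pow_mul, ← pow_succ', show m - 1 + 1 = m by omega, ← hζ0] at h01 h02
  have hζ0c : ∀ g, Commute g ζ₀ := hZc ζ₀ h01
  have hζ0p : ζ₀ ^ p = 1 := hA.2 _ (hZA h01)
  obtain ⟨s, hs⟩ : ∃ s : ℕ, ζ₀ ^ s = ζ' := by
    rw [← Submonoid.mem_powers_iff, mem_powers_iff_mem_zpowers, zpowers_eq_of_le hG hζp h01 h02]
    exact hζ'Z
  have hsp : ¬ p ∣ s := fun hd => hζ'1 (by rw [← hs, pow_eq_one_of_dvd hζ0p hd])
  have hxy : x⁻¹ * y * x = y * ζ₀ ^ s := by rw [hs, hζ']; group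
  have hiter : ∀ a : ℕ, (x ^ a)⁻¹ * y * x ^ a = y * ζ₀ ^ (s * a) ∧
      (x ^ a)⁻¹ * h * x ^ a = y ^ a * ζ₀ ^ (s * a.choose 2) * h := by
    intro a
    induction a with
    | zero => simp
    | succ a ih =>
      have hz : ∀ i : ℕ, x⁻¹ * ζ₀ ^ i * x = ζ₀ ^ i := fun i => by
        rw [((hζ0c x⁻¹).pow_right i).eq, inv_mul_cancel_right]
      constructor
      · calc (x ^ (a + 1))⁻¹ * y * x ^ (a + 1) = x⁻¹ * ((x ^ a)⁻¹ * y * x ^ a) * x := by
              rw [pow_succ]; group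
          _ = (x⁻¹ * y * x) * (x⁻¹ * ζ₀ ^ (s * a) * x) := by rw [ih.1]; group
          _ = _ := by rw [hxy, hz, mul_assoc, ← pow_add, mul_add, mul_one, Nat.add_comm]
      · calc (x ^ (a + 1))⁻¹ * h * x ^ (a + 1) = x⁻¹ * ((x ^ a)⁻¹ * h * x ^ a) * x := by
              rw [pow_succ]; group
          _ = (x⁻¹ * y ^ a * x) * (x⁻¹ * ζ₀ ^ (s * a.choose 2) * x) * (x⁻¹ * h * x) := by
              rw [ih.2]; group
          _ = (y * ζ₀ ^ s) ^ a * ζ₀ ^ (s * a.choose 2) * (y * h) := by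
              rw [hz, hxh, ← hxy]
              congr 2
              simpa using (conj_pow (a := x⁻¹) (b := y) (i := a)).symm
          _ = y ^ a * (ζ₀ ^ (s * a + s * a.choose 2) * y) * h := by
              rw [((hζ0c y).pow_right s).mul_pow, ← pow_mul, pow_add]; simp only [mul_assoc]
          _ = _ := by
              rw [← ((hζ0c y).pow_right _).eq, Nat.choose_succ_succ' a 1, Nat.choose_one_right,
                mul_add, pow_succ]
              simp only [mul_assoc]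
  obtain ⟨a, s', hs', hpa, hsa⟩ : ∃ a s' : ℕ, (s' = 1 ∨ ¬ IsSquare (s' : ZMod p)) ∧ ¬ p ∣ a ∧
      ((s * a * a : ℕ) : ZMod p) = (s' : ZMod p) := by
    by_cases hsq : IsSquare (s : ZMod p)
    · obtain ⟨r, hr'⟩ := hsq
      have hr0 : r ≠ 0 := fun e => hsp ((ZMod.natCast_eq_zero_iff s p).mp (by rw [hr', e, mul_zero]))
      refine ⟨r⁻¹.val, 1, Or.inl rfl, fun hd => inv_ne_zero hr0 ?_, ?_⟩
      · rw [← ZMod.natCast_zmod_val r⁻¹]
        exact (ZMod.natCast_eq_zero_iff _ p).mpr hd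
      · push_cast
        rw [ZMod.natCast_zmod_val, hr', mul_assoc r, mul_inv_cancel₀ hr0, mul_one,
          mul_inv_cancel₀ hr0]
    · exact ⟨1, s, Or.inr hsq, hp.out.not_dvd_one, by simp⟩
  set y' := y ^ a * ζ₀ ^ (s * a.choose 2) with hy'
  have hy'A : y' ∈ A := mul_mem (pow_mem hy a) (pow_mem (hZA h01) _)
  have hs'' : ζ₀ ^ (s * a * a) = ζ₀ ^ s' := by
    rw [pow_eq_pow_iff_modEq, orderOf_eq_prime hζ0p h02]
    exact (ZMod.natCast_eq_natCast_iff _ _ _).mp hsa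
  refine ⟨by omega, s', x ^ a, y', h, hs', ?_, ?_, hA.2 _ hy'A, ?_, (hKA h hhK y' hy'A).eq, ?_, ?_⟩
  · set L := closure ({x ^ a, y', h} : Set G)
    have hxa : x ^ a ∈ L := subset_closure (by simp)
    have hy'L : y' ∈ L := subset_closure (by simp)
    have hhL : h ∈ L := subset_closure (by simp)
    have hxL : x ∈ L := by
      have hne : x ^ a ≠ 1 := fun e => by
        rw [← orderOf_dvd_iff_pow_eq_one, orderOf_eq_prime hx (fun e1 => hxK (e1 ▸ one_mem K))] at e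
        exact hpa e
      exact zpowers_le.mpr hxa ((zpowers_eq_of_le hG hx (pow_mem (mem_zpowers x) a) hne).ge
        (mem_zpowers x))
    have hCL : C ≤ L := hhgen.ge.trans (zpowers_le.mpr (pow_mem hhL p))
    have hyaL : y ^ a ∈ L := by
      have hz : ζ₀ ^ (s * a.choose 2) ∈ L := pow_mem (pow_mem hhL _) _
      have := mul_mem hy'L (inv_mem hz)
      rwa [hy', mul_inv_cancel_right] at this
    have hyL : y ∈ L := by
      have hne : y ^ a ≠ 1 := fun e => by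
        rw [← orderOf_dvd_iff_pow_eq_one, orderOf_eq_prime hyp (fun e1 => hyZ (e1 ▸ one_mem Z))] at e
        exact hpa e
      exact zpowers_le.mpr hyaL ((zpowers_eq_of_le hG hyp (pow_mem (mem_zpowers y) a) hne).ge
        (mem_zpowers y))
    refine hgenL L hxL hyL hCL (hr.le.trans (hAgen.trans (sup_le (hZy L hyL) ?_)))
    exact zpowers_le.mpr ⟨⟨h, hhK⟩, hhL, hh⟩
  · rw [← pow_mul, mul_comm, pow_mul, hx, one_pow]
  · rw [show n - 2 = m + 1 by omega, pow_succ, pow_mul, ← hζ0, hζ0p]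
  · rw [show n - 3 = m by omega, mul_comm s', pow_mul, ← hζ0, ← hs'', hy']
    calc (x ^ a)⁻¹ * (y ^ a * ζ₀ ^ (s * a.choose 2)) * x ^ a
        = ((x ^ a)⁻¹ * y ^ a * x ^ a) * ((x ^ a)⁻¹ * ζ₀ ^ (s * a.choose 2) * x ^ a) := by group
      _ = (y * ζ₀ ^ (s * a)) ^ a * ζ₀ ^ (s * a.choose 2) := by
          rw [← (hiter a).1]
          congr 1
          · simpa using (conj_pow (a := (x ^ a)⁻¹) (b := y) (i := a)).symm
          · rw [((hζ0c (x ^ a)⁻¹).pow_right _).eq, inv_mul_cancel_right]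
      _ = _ := by
          rw [((hζ0c y).pow_right _).mul_pow, ← pow_mul, mul_assoc, ← pow_add, mul_assoc, mul_assoc,
            ← pow_add, Nat.add_comm]
  · exact (hiter a).2

end Cfsg.Agent.GenA.RankTwo
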