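import Cfsg.Agent.GenA.RankTwo.Basic
import Cfsg.Agent.GenA.HuppertCriterion
import Cfsg.Agent.OddLocal.Metacyclic
import Cfsg.Agent.S3919

/-! Odd `p`-groups with at most `p²` elements of order dividing `p`: metacyclic, or `p = 3` and maximal class. -/

set_option autoImplicit false

namespace Cfsg.Agent.GenA.RankTwo

open Cfsg Subgroup
open scoped commutatorElement

universe u

/-- If the elements of order `p` are central, elements with equal `p`-th powers differ by one of them. -/
theorem pow_inj_mod {p : ℕ} [hp : Fact p.Prime] (hp2 : p ≠ 2) :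
    ∀ (k : ℕ) {H : Type u} [Group H] [Finite H], Nat.card H = k → IsPGroup p H →
      (∀ w : H, w ^ p = 1 → w ∈ center H) → ∀ x y : H, x ^ p = y ^ p → (x⁻¹ * y) ^ p = 1 := by
  intro k
  induction k using Nat.strong_induction_on with
  | _ k ih => ?_
  intro H _ _ hk hH hc x y hxy
  subst hk
  set z := y * x * y⁻¹ with hz
  set K := closure ({x, z} : Set H) with hK
  have hxK : x ∈ K := subset_closure (Or.inl rfl)
  have hzK : z ∈ K := subset_closure (Or.inr rfl)
  by_cases hKtop : K = ⊤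
  · haveI := hH.isNilpotent
    have hx : zpowers x = ⊤ := by
      haveI : Group.IsNilpotent (⊤ : Subgroup H) :=
        Group.nilpotent_of_mulEquiv Subgroup.topEquiv.symm
      refine Cfsg.Agent.Coprime.eq_of_le_of_sup_commutator_eq le_top (top_le_iff.mp (hKtop.ge.trans ?_))
      refine (closure_le _).mpr ?_
      rintro w (rfl | rfl)
      · exact mem_sup_left (mem_zpowers w)
      · rw [hz, show y * x * y⁻¹ = ⁅y, x⁆ * x by rw [commutatorElement_def]; group]
        exact mul_mem (mem_sup_right (commutator_mem_commutator (mem_top y) (mem_top x)))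
          (mem_sup_left (mem_zpowers x))
    obtain ⟨i, rfl⟩ := mem_zpowers_iff.mp (hx ▸ mem_top y)
    rw [((Commute.refl x).inv_left.zpow_right i).mul_pow, inv_pow, hxy, inv_mul_cancel]
  · have hlt : Nat.card K < Nat.card H := lt_of_le_of_ne (card_le_card_group K)
      fun e => hKtop (eq_top_of_card_eq K e)
    have hpow : x ^ p = z ^ p := by
      rw [hz, conj_pow, hxy, ((Commute.refl y).pow_right p).eq, mul_inv_cancel_right]
    have h := congrArg Subtype.val (@ih _ hlt K _ _ rfl (hH.to_subgroup K)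
      (fun w hw => mem_center_iff.mpr fun g => Subtype.ext
        (mem_center_iff.mp (hc _ (by simpa using congrArg Subtype.val hw)) g))
      ⟨x, hxK⟩ ⟨z, hzK⟩ (Subtype.ext hpow))
    simp only [SubmonoidClass.coe_pow, coe_mul, coe_inv, coe_one] at h
    set e := x⁻¹ * z with he
    have hec := hc e h
    have he' : e⁻¹ ∈ center H := inv_mem hec
    have hcx : e = z * x⁻¹ := by
      calc e = x * e * x⁻¹ := by rw [mem_center_iff.mp hec x, mul_inv_cancel_right]
        _ = _ := by rw [he]; group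
    rw [mul_pow_of_central hp2 (e := e⁻¹) (mem_center_iff.mp he' x⁻¹).symm
      (mem_center_iff.mp he' y).symm ?_ (by rw [inv_pow, h, inv_one]), inv_pow, hxy, inv_mul_cancel]
    rw [hcx, hz]
    group

/-- A `p`-group whose elements of order `p` are central, lie in `A` and number at most `p²`. -/
theorem card_le_mul_pow_closure {p : ℕ} [hp : Fact p.Prime] (hp2 : p ≠ 2) {G : Type u} [Group G]
    [Finite G] (hG : IsPGroup p G) (M A : Subgroup G) (hMA : M ≤ centralizer (A : Set G))
    (hall : ∀ w : G, w ^ p = 1 → w ∈ A) :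
    Nat.card M ≤ Nat.card ↥((fun g : G => g ^ p) '' (M : Set G)) * Nat.card A := by
  set f : G → G := fun g => g ^ p with hf
  have hpick : ∀ v : ↥(f '' (M : Set G)), ∃ m : M, f m = v := fun ⟨v, m, hm, hv⟩ => ⟨⟨m, hm⟩, hv⟩
  choose r hr using hpick
  have hin : ∀ m : M, (r ⟨f m, m, m.2, rfl⟩ : G)⁻¹ * m ∈ A := fun m => by
    refine hall _ ?_
    have h := pow_inj_mod hp2 _ rfl (hG.to_subgroup M) (fun w hw => mem_center_iff.mpr fun g =>
      Subtype.ext (mem_centralizer_iff.mp (hMA g.2) _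
        (hall _ (by simpa using congrArg Subtype.val hw))).symm)
      (r ⟨f m, m, m.2, rfl⟩) m (Subtype.ext (by simpa [hf] using hr ⟨f m, m, m.2, rfl⟩))
    simpa using congrArg Subtype.val h
  rw [← Nat.card_prod]
  refine Nat.card_le_card_of_injective
    (fun m : M => ((⟨f m, m, m.2, rfl⟩ : ↥(f '' (M : Set G))), (⟨_, hin m⟩ : A))) fun a b h => ?_
  simp only [Prod.mk.injEq] at h
  obtain ⟨h1, h2⟩ := h
  have h2' := congrArg Subtype.val h2
  simp only [h1] at h2'
  exact Subtype.ext (mul_left_cancel h2')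

theorem small_omega {p : ℕ} [hp : Fact p.Prime] (hp2 : p ≠ 2) {G : Type u} [Group G] [Finite G]
    (n : ℕ) (hcard : Nat.card G = p ^ n)
    (hΩ : Nat.card (closure {x : G | x ^ p = 1}) ≤ p ^ 2) :
    IsMetacyclic G ∨ (p = 3 ∧ 2 ≤ n ∧ (⊤ : Subgroup G).lowerCentralSeries (n - 2) ≠ ⊥) := by
  have hG : IsPGroup p G := IsPGroup.of_card hcard
  by_cases hp3 : 3 < p
  · exact Or.inl (OddLocal.Metacyclic.metacyclic hp3 _ rfl hG hΩ)
  have hp3 : p = 3 := by have := hp.out.two_le; omega
  by_cases hcyc : IsCyclic G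
  · exact Or.inl isMetacyclic_of_isCyclic
  obtain ⟨A, hAn, hA, hA2⟩ := Cfsg.Agent.S0126.result hp2 hG hcyc
  have hn2 : 2 ≤ n := (Nat.pow_le_pow_iff_right hp.out.one_lt).mp
    (hA2 ▸ hcard ▸ card_le_card_group A)
  have hall : ∀ w : G, w ^ p = 1 → w ∈ A := by
    have hle : A ≤ closure {x : G | x ^ p = 1} := fun a ha => subset_closure (hA.2 a ha)
    intro w hw
    rw [eq_of_le_of_card_ge hle (hA2 ▸ hΩ)]
    exact subset_closure hw
  set P := closure (Set.range fun x : G => x ^ p) with hP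
  by_cases hidx : P.index ≤ p ^ 2
  · exact Or.inl (HuppertCriterion.metacyclic hp2 _ rfl hG hidx)
  set M := centralizer (A : Set G) with hM
  have hMn : M.Normal := by rw [hM]; infer_instance
  have hcount := card_le_mul_pow_closure hp2 hG M A le_rfl hall
  set S := (fun g : G => g ^ p) '' (M : Set G) with hS
  have hMi := index_centralizer_dvd hG A hA2
  have hSP : S ⊆ (P : Set G) := by
    rintro _ ⟨m, _, rfl⟩
    exact subset_closure ⟨m, rfl⟩
  have hge : p ^ 3 ≤ P.index := by
    obtain ⟨k, hk⟩ := hG.index P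
    rw [hk] at hidx ⊢
    refine Nat.pow_le_pow_right hp.out.pos ?_
    by_contra hlt
    exact hidx (Nat.pow_le_pow_right hp.out.pos (by omega))
  have hSeq : (P : Set G) = S := by
    refine (Set.eq_of_subset_of_ncard_le hSP ?_ (Set.toFinite _)).symm
    rw [← Nat.card_coe_set_eq, ← Nat.card_coe_set_eq]
    show Nat.card P ≤ Nat.card S
    refine Nat.le_of_mul_le_mul_right (?_ : Nat.card P * p ^ 3 ≤ Nat.card S * p ^ 3)
      (pow_pos hp.out.pos 3)
    calc Nat.card P * p ^ 3 ≤ Nat.card P * P.index := Nat.mul_le_mul_left _ hge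
      _ = Nat.card M * M.index := by rw [card_mul_index, card_mul_index]
      _ ≤ (Nat.card S * Nat.card A) * p := Nat.mul_le_mul hcount hMi
      _ = _ := by rw [hA2]; ring
  by_contra hcon
  push_neg at hcon
  have hlarge : ∀ t : G, p ^ 2 < Nat.card (centralizer ({t} : Set G)) := fun t => by
    by_contra h
    exact Cfsg.Agent.S3919.class_large n G hcard hn2 t (not_lt.mp h) (hcon.2 hp3 hn2)
  have hMtop : M ≠ ⊤ := fun e => by
    rw [e, card_top, hA2, hcard] at hcount
    have h1 : Nat.card S ≤ Nat.card P := Nat.card_mono (Set.toFinite _) hSP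
    have h2 := P.card_mul_index
    rw [hcard] at h2
    have h3 : 0 < Nat.card P := Nat.card_pos
    have : p ^ 2 < P.index := not_le.mp hidx
    nlinarith
  obtain ⟨x, -, hxM⟩ := SetLike.exists_of_lt (lt_top_iff_ne_top.mpr hMtop)
  have hMp : M.index = p := by
    obtain ⟨k, hk⟩ := hG.index M
    rw [hk] at hMi
    rcases Nat.lt_or_ge k 1 with h | h
    · exact absurd (index_eq_one.mp (by rw [hk, show k = 0 by omega, pow_zero])) hMtop
    · exact le_antisymm (hk ▸ hMi) (hk ▸ Nat.le_self_pow (by omega) p)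
  have hpowM : ∀ g : G, g ^ p ∈ M := fun g => hMp ▸ pow_index_mem M g
  -- elements outside `M` have order greater than `p²`
  have hord : ∀ t : G, t ∉ M → t ^ (p ^ 2) ≠ 1 := by
    intro t ht ht1
    set C := centralizer ({t} : Set G)
    obtain ⟨a, haA, hat⟩ : ∃ a ∈ A, a * t ≠ t * a := by
      by_contra! h
      exact ht (mem_centralizer_iff.mpr fun a ha => h a ha)
    have hlt : C ⊓ A < A := lt_of_le_of_ne inf_le_right fun e =>
      hat (mem_centralizer_singleton_iff.mp (e.ge haA).1)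
    obtain ⟨i, hi, hic⟩ := (Nat.dvd_prime_pow hp.out).mp (hA2 ▸ card_dvd_of_le hlt.le)
    have hi1 : i ≤ 1 := by
      by_contra hi1
      exact hlt.ne (eq_of_le_of_card_ge hlt.le (by rw [hA2, hic, show i = 2 by omega]))
    obtain ⟨z, hz, hzu⟩ : ∃ z : G, z ^ p = 1 ∧ C ⊓ A ≤ zpowers z := by
      rcases (bot_or_exists_ne_one (C ⊓ A)) with hb | ⟨z, hz, hz1⟩
      · exact ⟨1, one_pow p, hb.le.trans bot_le⟩
      refine ⟨z, hA.2 z hz.2, (eq_of_le_of_card_ge (zpowers_le.mpr hz) ?_).ge⟩
      rw [hic, Nat.card_zpowers, orderOf_eq_prime (hA.2 z hz.2) hz1]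
      exact (Nat.pow_le_pow_right hp.out.pos hi1).trans (pow_one p).le
    have := isCyclic_of_unique hp2 (hG.to_subgroup C) hz fun w hw hw1 => hzu ⟨hw, hall w hw1⟩
    obtain ⟨g, hg⟩ := IsCyclic.exists_generator (α := C)
    obtain ⟨j, hj⟩ := mem_zpowers_iff.mp (hg ⟨t, mem_centralizer_singleton_iff.mpr rfl⟩)
    have hj' : (g : G) ^ j = t := by simpa using congrArg Subtype.val hj
    have hgC : orderOf g = Nat.card C := orderOf_eq_card_of_forall_mem_zpowers hg
    have h1 : g ^ (j * (p ^ 2 : ℕ)) = 1 := by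
      rw [zpow_mul, hj, zpow_natCast]
      exact Subtype.ext (by simpa using ht1)
    rw [← orderOf_dvd_iff_zpow_eq_one, hgC] at h1
    obtain ⟨c, hc⟩ := (hG.to_subgroup C).exists_card_eq
    rw [hc] at h1
    have hc3 : 2 < c := (Nat.pow_lt_pow_iff_right hp.out.one_lt).mp (hc ▸ hlarge t)
    have hnd : ¬ (p : ℤ) ∣ j := by
      rintro ⟨d, rfl⟩
      refine ht ?_
      rw [← hj', zpow_mul, zpow_natCast]
      exact zpow_mem (hpowM _) d
    have hcop : IsCoprime ((p : ℤ) ^ c) j :=
      ((Nat.prime_iff_prime_int.mp hp.out).coprime_iff_not_dvd.mpr hnd).pow_left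
    push_cast at h1
    have h3 := Int.natCast_dvd_natCast.mp
      (show ((p ^ c : ℕ) : ℤ) ∣ ((p ^ 2 : ℕ) : ℤ) by push_cast; exact hcop.dvd_of_dvd_mul_left h1)
    have := (Nat.pow_dvd_pow_iff_le_right hp.out.one_lt).mp h3
    omega
  obtain ⟨m, hm, hmx⟩ : x ^ p ∈ S := hSeq ▸ subset_closure ⟨x, rfl⟩
  simp only at hmx
  set H := centralizer ({x ^ p} : Set G) ⊓ M
  have hmC : Commute m (x ^ p) := hmx ▸ (Commute.refl m).pow_right p
  set n' := x * m * x⁻¹ with hn'
  have hn'p : n' ^ p = m ^ p := by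
    rw [hn', conj_pow, hmx, ((Commute.refl x).pow_right p).eq, mul_inv_cancel_right]
  have haA : m⁻¹ * n' ∈ A := hall _ (by
    have h := pow_inj_mod hp2 _ rfl (hG.to_subgroup M) (fun w hw => mem_center_iff.mpr fun g =>
      Subtype.ext (mem_centralizer_iff.mp g.2 _
        (hall _ (by simpa using congrArg Subtype.val hw))).symm)
      ⟨m, hm⟩ ⟨n', hMn.conj_mem m hm x⟩ (Subtype.ext (by simpa using hn'p.symm))
    simpa using congrArg Subtype.val h)
  set a := m⁻¹ * n' with ha
  have hma : Commute m a := ((mem_centralizer_iff.mp hm) a haA).symm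
  set b := x * a⁻¹ * x⁻¹ with hb
  have hbA : b ∈ A := hAn.conj_mem _ (inv_mem haA) x
  have hd := conj_mem_mul_center hG A hA2 (inv_mem haA) x
  rw [← hb] at hd
  set d := a⁻¹⁻¹ * b with hdd
  have hbd : b = a⁻¹ * d := by rw [hdd]; group
  have hdc : ∀ g, Commute d g := fun g => (mem_center_iff.mp hd g).symm
  have hx1 : x * m⁻¹ = m⁻¹ * a⁻¹ * x := by
    rw [← mul_inv_rev, show a * m = n' by rw [← hma.eq, ha, mul_inv_cancel_left], hn']
    group
  have hx2 : x * a⁻¹ = a⁻¹ * d * x := by rw [← hbd, hb]; group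
  have hform := twist_pow (u := m⁻¹) hma.symm.inv_left.inv_right (hdc _) (hdc _) (hdc _) hx1 hx2 p
  refine hord (m⁻¹ * x) (fun h => hxM (by simpa using mul_mem hm h)) ?_
  have hap : a⁻¹ ^ p = 1 := hA.2 _ (inv_mem haA)
  have hdp : d ^ p = 1 := hA.2 _ (mul_mem (inv_mem (inv_mem haA)) hbA)
  rw [pow_two, pow_mul, hform, pow_eq_one_of_dvd hap (prime_dvd_choose_two hp2), mul_one, mul_assoc,
    ((hdc (x ^ p)).pow_left _).eq, ← mul_assoc, inv_pow, hmx, inv_mul_cancel, one_mul, ← pow_mul,
    mul_comm, pow_mul, hdp, one_pow]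

end Cfsg.Agent.GenA.RankTwo
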